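import Mathlib
import Groth.Prelude.Def_W4c3tautjacobianRel

/-!
# The formal relation ring: bidegrees and the commutation of `F` with `E`
-/

set_option autoImplicit false

namespace Groth.Agent.TautJacLib

open W4c3tautjacobian MvPolynomial

variable {g : ℕ}

theorem mem_idx {p : ℕ × ℕ} (h : Valid g p) : p ∈ idx g := by
  obtain ⟨h1, h2, -, -⟩ := h
  simp only [idx, Finset.mem_product, Finset.mem_range]
  omega

/-- The bidegree with values in `ℤ × ℤ`. -/
noncomputable def wz (g : ℕ) : Var g → ℤ × ℤ := fun v => (((wt g v).1 : ℤ), ((wt g v).2 : ℤ))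

theorem weight_wz (d : Var g →₀ ℕ) :
    Finsupp.weight (wz g) d = (((Finsupp.weight (wt g) d).1 : ℤ), ((Finsupp.weight (wt g) d).2 : ℤ)) := by
  induction d using Finsupp.induction_linear with
  | zero => simp; rfl
  | add a b ha hb => simp only [map_add, ha, hb]; ext <;> simp
  | single v a => simp only [Finsupp.weight_single]; ext <;> simp [wz]

theorem wz_hom {P : RelRing g} {a b : ℕ} (h : IsWeightedHomogeneous (wt g) P (a, b)) :
    IsWeightedHomogeneous (wz g) P ((a : ℤ), (b : ℤ)) := by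
  intro d hd
  rw [weight_wz, h hd]

theorem hom_wt {P : RelRing g} {a b : ℕ} (h : IsWeightedHomogeneous (wz g) P ((a : ℤ), (b : ℤ))) :
    IsWeightedHomogeneous (wt g) P (a, b) := by
  intro d hd
  have h2 := h hd
  rw [weight_wz, Prod.mk.injEq, Nat.cast_inj, Nat.cast_inj] at h2
  exact Prod.ext h2.1 h2.2

theorem eq_zero_of_neg {P : RelRing g} {w : ℤ × ℤ} (h : IsWeightedHomogeneous (wz g) P w) (hw : w.1 < 0) :
    P = 0 := by
  ext d
  rw [coeff_zero]
  by_contra hd
  have h2 := h hd
  rw [weight_wz] at h2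
  rw [← h2] at hw
  exact absurd hw (by simp)

theorem wz_some {p : ℕ × ℕ} (h : Valid g p) : wz g (some ⟨p, h⟩) = ((p.1 : ℤ), (p.2 : ℤ)) := rfl

theorem xv_of_valid {p : ℕ × ℕ} (h : Valid g p) : xv g (p.1 : ℤ) (p.2 : ℤ) = X (some ⟨p, h⟩) := by
  have hne : ¬ ((p.1 : ℤ) = 0 ∧ (p.2 : ℤ) = 0) := fun h0 => h.2.2.2 (Prod.ext (by omega) (by omega))
  rw [xv, if_neg hne, dif_pos ⟨by omega, by omega, by simpa using h⟩]
  simp

theorem xv_hom (a b : ℤ) : IsWeightedHomogeneous (wz g) (xv g a b) (a, b) := by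
  rw [xv]
  split_ifs with h0 h
  · rw [h0.1, h0.2, ← map_natCast (C : ℚ →+* RelRing g)]
    exact isWeightedHomogeneous_C _ _
  · have := isWeightedHomogeneous_X ℚ (wz g) (some ⟨(a.toNat, b.toNat), h.2.2⟩ : Var g)
    rw [wz_some, Int.toNat_of_nonneg h.1, Int.toNat_of_nonneg h.2.1] at this
    exact this
  · exact isWeightedHomogeneous_zero _ _ _

theorem dv_hom {P : RelRing g} {w : ℤ × ℤ} (h : IsWeightedHomogeneous (wz g) P w) (p : ℕ × ℕ) :
    IsWeightedHomogeneous (wz g) (dv g p P) (w - ((p.1 : ℤ), (p.2 : ℤ))) := by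
  rw [dv]
  split_ifs with hp
  · intro d hd
    rw [coeff_pderiv] at hd
    have := h (fun h0 => hd (by rw [h0, zero_mul]))
    rw [map_add, Finsupp.weight_single, one_smul, wz_some] at this
    exact eq_sub_of_add_eq this
  · exact isWeightedHomogeneous_zero _ _ _

theorem hom_cast {P : RelRing g} {w w' : ℤ × ℤ} (h : IsWeightedHomogeneous (wz g) P w) (e : w = w') :
    IsWeightedHomogeneous (wz g) P w' := e ▸ h

theorem hom_neg {P : RelRing g} {w : ℤ × ℤ} (h : IsWeightedHomogeneous (wz g) P w) :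
    IsWeightedHomogeneous (wz g) (-P) w := fun d hd => h (by simpa [coeff_neg] using hd)

/-- `F` lowers the first degree by two. -/
theorem F_hom {P : RelRing g} {w : ℤ × ℤ} (h : IsWeightedHomogeneous (wz g) P w) :
    IsWeightedHomogeneous (wz g) (F g P) (w.1 - 2, w.2) := by
  rw [F, Algebra.smul_def]
  refine IsWeightedHomogeneous.add ?_ (IsWeightedHomogeneous.sum _ _ _ fun p _ => ?_)
  · refine hom_cast ((isWeightedHomogeneous_C (wz g) _).mul
      (IsWeightedHomogeneous.sum _ _ (w.1 - 2, w.2) fun p _ => IsWeightedHomogeneous.sum _ _ _ fun q _ => ?_)) (zero_add _)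
    have hd := dv_hom (dv_hom h q) p
    rw [sub_mul, sub_eq_add_neg]
    refine IsWeightedHomogeneous.add ?_ (hom_neg ?_)
    · refine hom_cast ((((isWeightedHomogeneous_X ℚ (wz g) (none : Var g)).mul (xv_hom _ _)).mul (xv_hom _ _)).mul hd) ?_
      have hn : wz g (none : Var g) = ((0 : ℤ), (2 : ℤ)) := rfl
      rw [hn]
      ext <;> simp <;> ring
    · rw [← map_natCast (C : ℚ →+* RelRing g)]
      refine hom_cast (((isWeightedHomogeneous_C (wz g) _).mul (xv_hom _ _)).mul hd) ?_
      ext <;> simp <;> ring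
  · refine hom_cast ((xv_hom _ _).mul (dv_hom h p)) ?_
    ext <;> simp <;> ring

theorem iterate_F_hom {P : RelRing g} {w : ℤ × ℤ} (h : IsWeightedHomogeneous (wz g) P w) (n : ℕ) :
    IsWeightedHomogeneous (wz g) ((F g)^[n] P) (w.1 - 2 * n, w.2) := by
  induction n with
  | zero => exact hom_cast h (by ext <;> simp)
  | succ n ih =>
    rw [Function.iterate_succ_apply']
    refine hom_cast (F_hom ih) ?_
    ext <;> simp
    ring

theorem dv_add (p : ℕ × ℕ) (P Q : RelRing g) : dv g p (P + Q) = dv g p P + dv g p Q := by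
  simp only [dv]
  split_ifs
  · exact map_add _ _ _
  · rw [add_zero]

theorem dv_smul (p : ℕ × ℕ) (c : ℚ) (P : RelRing g) : dv g p (c • P) = c • dv g p P := by
  simp only [dv]
  split_ifs
  · exact Derivation.map_smul _ _ _
  · rw [smul_zero]

theorem F_add (P Q : RelRing g) : F g (P + Q) = F g P + F g Q := by
  simp only [F, dv_add, mul_add, Finset.sum_add_distrib, smul_add]
  abel

theorem F_smul (c : ℚ) (P : RelRing g) : F g (c • P) = c • F g P := by
  simp only [F, dv_smul, mul_smul_comm, ← Finset.smul_sum, smul_add, smul_comm c]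

/-- `F` as a linear map. -/
noncomputable def FL (g : ℕ) : RelRing g →ₗ[ℚ] RelRing g where
  toFun := F g
  map_add' := F_add
  map_smul' := F_smul

theorem FL_apply (P : RelRing g) : FL g P = F g P := rfl

theorem iterate_F_eq (n : ℕ) (P : RelRing g) : (F g)^[n] P = (FL g ^ n) P := by
  induction n with
  | zero => rfl
  | succ n ih => rw [Function.iterate_succ_apply', pow_succ', Module.End.mul_apply, ← ih]; rfl

theorem valid20 (hg : 1 ≤ g) : Valid g (2, 0) := ⟨by norm_num, by omega, by decide, by decide⟩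

theorem E_eq (hg : 1 ≤ g) (P : RelRing g) : E g P = X (some ⟨(2, 0), valid20 hg⟩) * P := by
  rw [E, ← xv_of_valid (valid20 hg)]
  simp

theorem E_hom {P : RelRing g} {w : ℤ × ℤ} (h : IsWeightedHomogeneous (wz g) P w) :
    IsWeightedHomogeneous (wz g) (E g P) (w.1 + 2, w.2) := by
  refine hom_cast ((xv_hom 2 0).mul h) ?_
  ext <;> simp <;> ring

theorem dv_E (hg : 1 ≤ g) (q : ℕ × ℕ) (P : RelRing g) :
    dv g q (E g P) = (if q = (2, 0) then P else 0) + E g (dv g q P) := by
  classical
  rw [E_eq hg, E_eq hg]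
  simp only [dv]
  split_ifs with hq hq2 hq2
  · subst hq2
    rw [pderiv_mul, pderiv_X_self, one_mul]
  · rw [pderiv_mul, pderiv_X_of_ne, zero_mul]
    intro he
    exact hq2 (congrArg Subtype.val (Option.some.inj he)).symm
  · exact absurd (hq2 ▸ valid20 hg) hq
  · simp

theorem mergeCoeff_two (k : ℕ) : mergeCoeff 2 k = k := by
  rcases k with _ | k
  · rfl
  · simp only [mergeCoeff, if_neg (show ¬ (2 = 0 ∨ k + 1 = 0) by omega),
      show 2 + (k + 1) - 2 = k + 1 by omega, show 2 - 1 = 1 from rfl, Nat.choose_one_right]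

theorem mergeCoeff_two' (k : ℕ) : mergeCoeff k 2 = k := by
  rcases k with _ | k
  · rfl
  · simp only [mergeCoeff, if_neg (show ¬ (k + 1 = 0 ∨ 2 = 0) by omega),
      show k + 1 + 2 - 2 = k + 1 by omega, show k + 1 - 1 = k by omega, Nat.choose_succ_self_right]

/-- The Euler operator of the first degree. -/
theorem euler {P : RelRing g} {a : ℕ} {b : ℤ} (h : IsWeightedHomogeneous (wz g) P ((a : ℤ), b)) :
    ∑ p ∈ idx g, (p.1 : RelRing g) * xv g (p.1 : ℤ) (p.2 : ℤ) * dv g p P = (a : RelRing g) * P := by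
  classical
  have key : ∀ d : Var g →₀ ℕ, ∑ p ∈ idx g, (if hp : Valid g p then p.1 * d (some ⟨p, hp⟩) else 0) =
      (Finsupp.weight (wt g) d).1 := by
    intro d
    induction d using Finsupp.induction_linear with
    | zero => simp
    | add x y hx hy =>
      rw [map_add, Prod.fst_add, ← hx, ← hy, ← Finset.sum_add_distrib]
      refine Finset.sum_congr rfl fun p _ => ?_
      split_ifs <;> simp [mul_add]
    | single v c =>
      rw [Finsupp.weight_single]
      rcases v with _ | ⟨p, hp⟩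
      · simp [wt]
      · rw [Finset.sum_eq_single p]
        · simp [hp, wt, mul_comm]
        · intro q _ hne
          split_ifs with hq
          · rw [Finsupp.single_eq_of_ne, mul_zero]
            intro he
            first
              | exact hne (congrArg Subtype.val (Option.some.inj he))
              | exact hne (congrArg Subtype.val (Option.some.inj he)).symm
          · rfl
        · exact fun hn => absurd (mem_idx hp) hn
  conv_rhs => rw [P.as_sum, Finset.mul_sum]
  have hlin : ∀ p, dv g p P = ∑ d ∈ P.support, dv g p (monomial d (coeff d P)) := by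
    intro p
    conv_lhs => rw [P.as_sum]
    simp only [dv]
    split_ifs
    · exact map_sum _ _ _
    · simp
  simp only [hlin, Finset.mul_sum]
  rw [Finset.sum_comm]
  refine Finset.sum_congr rfl fun d hd => ?_
  have hd1 : (Finsupp.weight (wt g) d).1 = a := by
    have h2 := h (mem_support_iff.1 hd)
    rw [weight_wz, Prod.mk.injEq] at h2
    exact_mod_cast h2.1
  rw [← hd1, ← key, Nat.cast_sum, Finset.sum_mul]
  refine Finset.sum_congr rfl fun p _ => ?_
  by_cases hp : Valid g p
  · rw [dv, dif_pos hp, dif_pos hp, xv_of_valid hp, mul_assoc, X_mul_pderiv_monomial, Nat.cast_mul, nsmul_eq_mul]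
    ring
  · rw [dv, dif_neg hp, dif_neg hp]
    simp

/-- The commutation relation. -/
theorem F_E (hg : 1 ≤ g) {P : RelRing g} {a : ℕ} {b : ℤ} (h : IsWeightedHomogeneous (wz g) P ((a : ℤ), b)) :
    F g (E g P) = E g (F g P) + ((g : ℚ) - a) • P := by
  classical
  have hx : xv g 1 (-1) = 0 := by simp [xv]
  have h00 : xv g 0 0 = (g : RelRing g) := by simp [xv]
  set A : ℕ × ℕ → ℕ × ℕ → RelRing g := fun p q =>
    X none * xv g ((p.1 : ℤ) - 1) ((p.2 : ℤ) - 1) * xv g ((q.1 : ℤ) - 1) ((q.2 : ℤ) - 1)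
      - (mergeCoeff p.1 q.1 : RelRing g) * xv g ((p.1 : ℤ) + q.1 - 2) ((p.2 : ℤ) + q.2) with hA
  set B : ℕ × ℕ → RelRing g := fun p => xv g ((p.1 : ℤ) - 2) (p.2 : ℤ) with hB
  have hF : ∀ Q, F g Q = (1 / 2 : ℚ) • (∑ p ∈ idx g, ∑ q ∈ idx g, A p q * dv g p (dv g q Q)) +
      ∑ p ∈ idx g, B p * dv g p Q := fun Q => rfl
  have hA1 : ∀ p, A p (2, 0) = -((p.1 : RelRing g) * xv g (p.1 : ℤ) (p.2 : ℤ)) := by
    intro p
    simp [hA, hx, mergeCoeff_two']
  have hA2 : ∀ q, A (2, 0) q = -((q.1 : RelRing g) * xv g (q.1 : ℤ) (q.2 : ℤ)) := by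
    intro q
    simp [hA, hx, mergeCoeff_two]
  have hB1 : B (2, 0) = (g : RelRing g) := by simp [hB, h00]
  have hdd : ∀ p q, dv g p (dv g q (E g P)) = (if q = (2, 0) then dv g p P else 0) +
      ((if p = (2, 0) then dv g q P else 0) + E g (dv g p (dv g q P))) := by
    intro p q
    rw [dv_E hg q P, dv_add, dv_E hg p]
    split_ifs <;> simp [dv]
  have h20 := mem_idx (valid20 hg)
  rw [hF, hF]
  simp only [hdd]
  simp only [dv_E hg _ P, mul_add, Finset.sum_add_distrib, mul_ite, mul_zero,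
    Finset.sum_ite_eq', h20, if_true]
  rw [Finset.sum_comm (f := fun p q => if p = (2, 0) then A p q * dv g q P else 0)]
  simp only [Finset.sum_ite_eq', h20, if_true, hA1, hA2, hB1, neg_mul, Finset.sum_neg_distrib, euler h]
  simp only [E, Finset.mul_sum, mul_add, Algebra.smul_def, map_sub, map_natCast]
  have h2 : algebraMap ℚ (RelRing g) (1 / 2) + algebraMap ℚ (RelRing g) (1 / 2) = 1 := by
    rw [← map_add, add_halves, map_one]
  rw [show (∑ x ∈ idx g, ∑ i ∈ idx g,
        algebraMap ℚ (RelRing g) (1 / 2) * (A x i * (xv g 2 0 * dv g x (dv g i P)))) =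
      ∑ x ∈ idx g, ∑ i ∈ idx g, xv g 2 0 * (algebraMap ℚ (RelRing g) (1 / 2) * (A x i * dv g x (dv g i P))) from
        Finset.sum_congr rfl fun x _ => Finset.sum_congr rfl fun i _ => by ring,
    show (∑ x ∈ idx g, B x * (xv g 2 0 * dv g x P)) = ∑ x ∈ idx g, xv g 2 0 * (B x * dv g x P) from
        Finset.sum_congr rfl fun x _ => mul_left_comm _ _ _]
  linear_combination (-((a : RelRing g) * P)) * h2

/-- The iterated commutation relation landing in first degree zero. -/
theorem iterate_F_E (hg : 1 ≤ g) (m : ℕ) : ∀ {P : RelRing g} {a : ℕ} {b : ℤ},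
    IsWeightedHomogeneous (wz g) P ((a : ℤ), b) →
      (F g)^[m + 1] (E g P) = E g ((F g)^[m + 1] P) + (((m : ℚ) + 1) * ((g : ℚ) - a + m)) • (F g)^[m] P := by
  induction m with
  | zero =>
    intro P a b h
    simpa using F_E hg h
  | succ m ih =>
    intro P a b h
    rw [Function.iterate_succ_apply' (F g) (m + 1) (E g P), ih h, F_add, F_smul,
      ← Function.iterate_succ_apply' (F g) m P]
    have h3 := iterate_F_hom h (m + 1)
    by_cases hneg : ((a : ℤ) - 2 * ((m + 1 : ℕ) : ℤ)) < 0
    · have hz : (F g)^[m + 1] P = 0 := eq_zero_of_neg h3 hneg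
      have hz2 : (F g)^[m + 1 + 1] P = 0 := by
        rw [Function.iterate_succ_apply', hz, ← FL_apply, map_zero]
      rw [hz, hz2]
      simp [E, ← FL_apply]
    · obtain ⟨c, hc⟩ : ∃ c : ℕ, (a : ℤ) - 2 * ((m + 1 : ℕ) : ℤ) = c := ⟨_, (Int.toNat_of_nonneg (by omega)).symm⟩
      rw [F_E hg (hom_cast h3 (Prod.ext hc rfl) : IsWeightedHomogeneous (wz g) _ ((c : ℤ), b)),
        ← Function.iterate_succ_apply' (F g) (m + 1) P, add_assoc, ← add_smul]
      congr 2
      have hc' : (c : ℚ) = (a : ℚ) - 2 * ((m : ℚ) + 1) := by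
        have := congrArg (fun z : ℤ => (z : ℚ)) hc
        push_cast at this
        linarith
      push_cast
      rw [hc']
      ring

end Groth.Agent.TautJacLib
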